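import Groth.Prelude.Def_Conn
import Mathlib.Algebra.MvPolynomial.Derivation
import Mathlib.Algebra.MvPolynomial.CommRing
import Mathlib.Algebra.CharP.Basic
import Mathlib.Algebra.Field.ZMod
import Mathlib.Data.Nat.Choose.Sum
import Mathlib.Data.Nat.Choose.Dvd
import Mathlib.RingTheory.MvPolynomial.Basic

/-!
Powers of a twisted derivation in characteristic `p` (Jacobson-Hochschild formula) and linearity of
covariant derivatives in the derivation.
-/

namespace Groth.Agent.PCurv29

open Finset

section iterate

variable {A B M : Type*} [CommRing A] [CommRing B] [Algebra A B] [AddCommGroup M] [Module B M]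
  (δ : Derivation A B B) (f : B) (D : M →+ M)

/-- coefficients of the powers of `f • δ` -/
def cf : ℕ → ℕ → B
  | 0, k => if k = 0 then 1 else 0
  | n + 1, k => f * δ (cf n k) + (if k = 0 then 0 else f * cf n (k - 1))

lemma cf_eq_zero : ∀ {n k : ℕ}, n < k → cf δ f n k = 0 := by
  intro n
  induction n with
  | zero => intro k hk; rw [cf, if_neg (by omega)]
  | succ n ih =>
    intro k hk
    rw [cf, ih (by omega), map_zero, mul_zero, if_neg (by omega), ih (by omega), mul_zero, add_zero]

lemma cf_succ_zero (n : ℕ) : cf δ f (n + 1) 0 = 0 := by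
  induction n with
  | zero => simp [cf]
  | succ n ih => rw [cf, ih, map_zero, mul_zero, if_pos rfl, add_zero]

lemma cf_zero_right {n : ℕ} (hn : n ≠ 0) : cf δ f n 0 = 0 := by
  obtain ⟨q, rfl⟩ := Nat.exists_eq_succ_of_ne_zero hn
  exact cf_succ_zero δ f q

lemma cf_self : ∀ n : ℕ, cf δ f n n = f ^ n
  | 0 => by simp [cf]
  | n + 1 => by
    rw [cf, cf_eq_zero δ f (Nat.lt_succ_self n), if_neg (by omega), map_zero, mul_zero, zero_add,
      Nat.add_sub_cancel, cf_self n, pow_succ, mul_comm]

lemma iterate_smul (hD : ∀ (b : B) (m : M), D (b • m) = δ b • m + b • D m) (n : ℕ) (m : M) :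
    (fun x => f • D x)^[n] m = ∑ k ∈ range (n + 1), cf δ f n k • D^[k] m := by
  induction n with
  | zero => simp [cf]
  | succ n ih =>
    rw [Function.iterate_succ_apply', ih, map_sum, smul_sum]
    have h1 : ∀ k, f • D (cf δ f n k • D^[k] m) =
        (f * δ (cf δ f n k)) • D^[k] m + (f * cf δ f n k) • D^[k + 1] m := fun k => by
      rw [hD, smul_add, smul_smul, smul_smul, ← Function.iterate_succ_apply' D]
    have h2 : ∀ k, cf δ f (n + 1) k • D^[k] m = (f * δ (cf δ f n k)) • D^[k] m +
        (if k = 0 then 0 else f * cf δ f n (k - 1)) • D^[k] m := fun k => by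
      rw [cf, add_smul]
    simp only [h1, h2, sum_add_distrib]
    congr 1
    · rw [sum_range_succ (n := n + 1), cf_eq_zero δ f (Nat.lt_succ_self n), map_zero, mul_zero,
        zero_smul, add_zero]
    · rw [sum_range_succ' (n := n + 1)]
      simp

lemma iterate_leibniz (hD : ∀ (b : B) (m : M), D (b • m) = δ b • m + b • D m) (n : ℕ) (b : B)
    (m : M) :
    D^[n] (b • m) =
      ∑ ij ∈ antidiagonal n, n.choose ij.1 • ((⇑δ)^[ij.1] b • D^[ij.2] m) := by
  induction n with
  | zero => simp
  | succ n ih =>
    rw [Function.iterate_succ_apply', ih, map_sum,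
      sum_antidiagonal_choose_succ_nsmul (fun i j => (⇑δ)^[i] b • D^[j] m) n]
    simp only [map_nsmul, hD, nsmul_add, sum_add_distrib, ← Function.iterate_succ_apply']
    rw [add_comm]
    congr 1
    refine sum_congr rfl fun ij hij => ?_
    rw [Nat.choose_symm_of_eq_add (mem_antidiagonal.mp hij).symm]

lemma iterate_prime_leibniz (hD : ∀ (b : B) (m : M), D (b • m) = δ b • m + b • D m) (p : ℕ)
    [Fact p.Prime] [CharP B p] (b : B) (m : M) :
    D^[p] (b • m) = (⇑δ)^[p] b • m + b • D^[p] m := by
  have hp : p.Prime := Fact.out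
  rw [iterate_leibniz δ D hD, Finset.sum_eq_add (a := ((p, 0) : ℕ × ℕ)) (b := (0, p))]
  · simp
  · simp [hp.ne_zero]
  · intro ij hij hne
    rw [mem_antidiagonal] at hij
    have hlt : ij.1 ≠ 0 ∧ ij.1 < p := by
      refine ⟨fun h => hne.2 (Prod.ext h (by simp; omega)), ?_⟩
      rcases Nat.lt_or_ge ij.1 p with h | h
      · exact h
      · exact absurd (Prod.ext (by simp; omega) (by simp; omega)) hne.1
    have hd : ((p.choose ij.1 : ℕ) : B) = 0 := by
      rw [CharP.cast_eq_zero_iff B p]
      exact hp.dvd_choose_self hlt.1 hlt.2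
    rw [← Nat.cast_smul_eq_nsmul B, hd, zero_smul]
  · simp
  · simp

/-- the `p`-th iterate of a derivation in characteristic `p` -/
def iterPow (p : ℕ) [Fact p.Prime] [CharP B p] : Derivation A B B :=
  Derivation.mk' ((δ.toLinearMap : Module.End A B) ^ p) fun a b => by
    simp only [Module.End.pow_apply, Derivation.coeFn_coe]
    have := iterate_prime_leibniz (B := B) (M := B) δ δ.toLinearMap.toAddMonoidHom
      (fun a b => by
        show δ (a * b) = δ a * b + a * δ b
        rw [δ.leibniz, smul_eq_mul, smul_eq_mul, add_comm, mul_comm b]) p a b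
    simpa [add_comm, mul_comm] using this

lemma iterPow_apply (p : ℕ) [Fact p.Prime] [CharP B p] (b : B) :
    iterPow δ p b = (⇑δ)^[p] b := by
  simp [iterPow, Module.End.pow_apply]

lemma map_cf {A' B' : Type*} [CommRing A'] [CommRing B'] [Algebra A' B'] (δ' : Derivation A' B' B')
    (φ : B →+* B') (hφ : ∀ b, φ (δ b) = δ' (φ b)) :
    ∀ n k : ℕ, φ (cf δ f n k) = cf δ' (φ f) n k
  | 0, k => by by_cases h : k = 0 <;> simp [cf, h]
  | n + 1, k => by
    by_cases h : k = 0 <;> simp [cf, h, hφ, map_cf δ' φ hφ n]

end iterate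

section universal

open MvPolynomial

variable (p : ℕ) [Fact p.Prime]

/-- the universal ring of a function and its derivatives -/
abbrev U0 := MvPolynomial ℕ (ZMod p)

/-- with a further function and a coordinate -/
abbrev U1 := MvPolynomial (ℕ ⊕ Option ℕ) (ZMod p)

/-- the derivation of `U0` -/
noncomputable def d0 : Derivation (ZMod p) (U0 p) (U0 p) :=
  mkDerivation (ZMod p) fun i => X (i + 1)

/-- the derivation of `U1` -/
noncomputable def d1 : Derivation (ZMod p) (U1 p) (U1 p) :=
  mkDerivation (ZMod p) (Sum.elim (fun i => X (Sum.inl (i + 1)))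
    (fun o => o.elim 1 fun i => X (Sum.inr (some (i + 1)))))

lemma hom_comm {σ : Type*} {A' B' : Type*} [CommRing A'] [CommRing B'] [Algebra A' B']
    (δ : Derivation (ZMod p) (MvPolynomial σ (ZMod p)) (MvPolynomial σ (ZMod p)))
    (δ' : Derivation A' B' B') (φ : MvPolynomial σ (ZMod p) →+* B')
    (h : ∀ s, φ (δ (X s)) = δ' (φ (X s))) (u : MvPolynomial σ (ZMod p)) :
    φ (δ u) = δ' (φ u) := by
  induction u using MvPolynomial.induction_on with
  | C c =>
    obtain ⟨n, rfl⟩ := ZMod.natCast_zmod_surjective c
    rw [map_natCast C, Derivation.map_natCast, map_zero, map_natCast, Derivation.map_natCast]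
  | add a b ha hb => simp [ha, hb]
  | mul_X a s ha => simp [Derivation.leibniz, ha, h]

lemma cf_univ_eq_zero {k : ℕ} (h2 : 2 ≤ k) (hk : k < p) : cf (d0 p) (X 0) p k = 0 := by
  have hp : p.Prime := Fact.out
  let ι : U0 p →+* U1 p := (rename Sum.inl : U0 p →ₐ[ZMod p] U1 p).toRingHom
  have hι : ∀ n j, ι (cf (d0 p) (X 0) n j) = cf (d1 p) (X (Sum.inl 0)) n j := fun n j => by
    have h0 : ι (X 0) = X (Sum.inl 0) := rename_X _ _
    rw [← h0]
    exact map_cf _ _ (d1 p) ι (hom_comm p _ _ ι fun s => by simp [ι, d0, d1]) n j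
  let f : U1 p := X (Sum.inl 0)
  let t : U1 p := X (Sum.inr none)
  let y : ℕ → U1 p := fun i => X (Sum.inr (some i))
  let c : ℕ → U1 p := fun j => cf (d1 p) f p j
  have hy : ∀ j, (⇑(d1 p))^[j] (y 0) = y j := fun j => by
    induction j with
    | zero => rfl
    | succ j ih => rw [Function.iterate_succ_apply', ih]; simp [y, d1]
  have ht : d1 p t = 1 := by simp [t, d1]
  have hty : ∀ j, (⇑(d1 p))^[j] (t * y 0) = t * y j + (j : U1 p) * y (j - 1) := fun j => by
    induction j with
    | zero => simp
    | succ j ih =>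
      rw [Function.iterate_succ_apply', ih, map_add, Derivation.leibniz, Derivation.leibniz, ht,
        Derivation.map_natCast, ← hy j, ← Function.iterate_succ_apply' (⇑(d1 p)), hy, hy]
      rcases j with _ | j
      · simp
      · rw [Nat.add_sub_cancel, Nat.add_sub_cancel, show d1 p (y j) = y (j + 1) by simp [y, d1]]
        simp; ring
  have hD : ∀ a b : U1 p, (d1 p).toLinearMap.toAddMonoidHom (a • b) =
      d1 p a • b + a • (d1 p).toLinearMap.toAddMonoidHom b := fun a b => by
    show d1 p (a * b) = d1 p a * b + a * d1 p b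
    rw [(d1 p).leibniz, smul_eq_mul, smul_eq_mul, add_comm, mul_comm b]
  have hit : ∀ u : U1 p, (fun x => f * d1 p x)^[p] u =
      ∑ j ∈ range (p + 1), c j * (⇑(d1 p))^[j] u := fun u =>
    iterate_smul (d1 p) f (d1 p).toLinearMap.toAddMonoidHom hD p u
  have hG : ∀ u : U1 p, iterPow (f • d1 p) p u = ∑ j ∈ range (p + 1), c j * (⇑(d1 p))^[j] u :=
    fun u => by rw [iterPow_apply, ← hit]; rfl
  have hGt : iterPow (f • d1 p) p t = c 1 := by
    rw [hG, Finset.sum_eq_single 1]
    · rw [Function.iterate_one, ht, mul_one]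
    · intro j _ hj
      rcases j with _ | _ | j
      · rw [show c 0 = 0 from cf_zero_right _ _ hp.ne_zero, zero_mul]
      · exact absurd rfl hj
      · rw [Function.iterate_add_apply _ (j + 1) 1, Function.iterate_one, ht,
          Function.iterate_add_apply _ j 1, Function.iterate_one, Derivation.map_one_eq_zero,
          iterate_map_zero, mul_zero]
    · intro h; exact absurd (mem_range.mpr (by have := hp.two_le; omega)) h
  have key : ∑ j ∈ range (p + 1), c j * (j : U1 p) * y (j - 1) = c 1 * y 0 := by
    have e := (iterPow (f • d1 p) p).leibniz t (y 0)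
    rw [hG, hG, hGt, smul_eq_mul, smul_eq_mul] at e
    simp only [hty, hy, mul_add, sum_add_distrib, mul_left_comm _ t, ← mul_sum] at e
    simp only [mul_assoc]
    rw [add_right_inj] at e
    rw [e, mul_comm]
  let ev : U1 p →+* U0 p :=
    eval₂Hom C (Sum.elim X fun o => o.elim 0 fun i => if i = k - 1 then 1 else 0)
  have hev : ∀ j, ev (c j) = cf (d0 p) (X 0) p j := fun j => by
    show ev (cf (d1 p) (X (Sum.inl 0)) p j) = _
    rw [← hι]
    show ev (rename Sum.inl _) = _
    simp only [ev, coe_eval₂Hom, eval₂_rename]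
    exact eval₂_eta _
  have hevy : ∀ i, ev (y i) = if i = k - 1 then 1 else 0 := fun i => by simp [ev, y]
  have := congrArg ev key
  rw [map_sum, map_mul, hevy, if_neg (show 0 ≠ k - 1 by omega), mul_zero,
    Finset.sum_eq_single k] at this
  · rw [map_mul, map_mul, hev, hevy, if_pos rfl, mul_one, map_natCast, mul_eq_zero] at this
    refine this.resolve_right fun h => ?_
    have := (CharP.cast_eq_zero_iff (U0 p) p k).mp h
    exact absurd (Nat.le_of_dvd (by omega) this) (by omega)
  · intro j _ hj
    rcases j with _ | j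
    · simp
    · rw [map_mul, hevy, if_neg (by omega), mul_zero]
  · intro h; exact absurd (mem_range.mpr (by omega)) h

end universal

/-- Jacobson-Hochschild: `(f D)^p = f^p D^p + c D`, with `c` independent of the module. -/
theorem iterate_prime_smul {A B M : Type*} [CommRing A] [CommRing B] [Algebra A B] [AddCommGroup M]
    [Module B M] (p : ℕ) [Fact p.Prime] [CharP B p] (δ : Derivation A B B) (f : B) (D : M →+ M)
    (hD : ∀ (b : B) (m : M), D (b • m) = δ b • m + b • D m) (m : M) :
    (fun x => f • D x)^[p] m = f ^ p • D^[p] m + cf δ f p 1 • D m := by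
  have hp : p.Prime := Fact.out
  let φ : U0 p →+* B :=
    MvPolynomial.eval₂Hom (ZMod.castHom (dvd_refl p) B) fun i => (⇑δ)^[i] f
  have hφ : ∀ k, φ (cf (d0 p) (MvPolynomial.X 0) p k) = cf δ f p k := fun k => by
    have h0 : φ (MvPolynomial.X 0) = f := by simp [φ]
    rw [map_cf _ _ δ φ (hom_comm p _ _ φ fun s => by
      simp [φ, d0, Function.iterate_succ_apply']) p k, h0]
  rw [iterate_smul δ f D hD, Finset.sum_eq_add (a := p) (b := 1) hp.one_lt.ne']
  · rw [cf_self, Function.iterate_one]
  · intro k hk hne
    rw [mem_range] at hk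
    rcases Nat.eq_zero_or_pos k with rfl | hk0
    · rw [cf_zero_right δ f hp.ne_zero, zero_smul]
    · rw [← hφ, cf_univ_eq_zero p (by omega) (by omega), map_zero, zero_smul]
  · intro h; exact absurd (mem_range.mpr (by omega)) h
  · intro h; exact absurd (mem_range.mpr (by have := hp.two_le; omega)) h

section along

open TensorProduct

variable {A B M : Type*} [CommRing A] [CommRing B] [Algebra A B]

lemma lift_eq_of_eq (θ : Derivation A B B) (L : KaehlerDifferential A B →ₗ[B] B)
    (h : ∀ b, θ b = L (KaehlerDifferential.D A B b)) : θ.liftKaehlerDifferential = L :=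
  Derivation.liftKaehlerDifferential_unique _ _ (Derivation.ext fun b => by
    rw [Derivation.liftKaehlerDifferential_comp]; exact h b)

end along

section alongDer

universe v u

open TensorProduct

variable {A : Type v} {B M : Type u} [CommRing A] [CommRing B] [Algebra A B] [AddCommGroup M]
  [Module B M] [Module A M] [IsScalarTower A B M]

lemma along_add (nabla : M →ₗ[A] M ⊗[B] KaehlerDifferential A B)
    (L₁ L₂ : KaehlerDifferential A B →ₗ[B] B) (m : M) :
    Conn.along nabla (L₁ + L₂) m = Conn.along nabla L₁ m + Conn.along nabla L₂ m := by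
  simp [Conn.along_apply, TensorProduct.map_add_right]

lemma along_smul (nabla : M →ₗ[A] M ⊗[B] KaehlerDifferential A B) (c : B)
    (L : KaehlerDifferential A B →ₗ[B] B) (m : M) :
    Conn.along nabla (c • L) m = c • Conn.along nabla L m := by
  simp [Conn.along_apply, TensorProduct.map_smul_right]

lemma alongDer_smul_leibniz (nabla : M →ₗ[A] M ⊗[B] KaehlerDifferential A B)
    (hc : Conn.IsConn (KaehlerDifferential.D A B) nabla) (θ : Derivation A B B) (b : B) (m : M) :
    Conn.alongDer nabla θ (b • m) = θ b • m + b • Conn.alongDer nabla θ m := by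
  simp only [Conn.alongDer, Conn.along_apply, hc b m, map_add, map_smul, TensorProduct.map_tmul,
    TensorProduct.rid_tmul, LinearMap.id_apply, Derivation.liftKaehlerDifferential_comp_D]
  rw [add_comm]

end alongDer

end Groth.Agent.PCurv29
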